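import Groth.Prelude.Def_ProEtW

/-! transporting w-locality along homeomorphisms -/

universe u

namespace Groth.Agent.WLocalLib

variable {X Y : Type u} [TopologicalSpace X] [TopologicalSpace Y]

theorem isClosed_singleton_homeo (e : X ≃ₜ Y) (x : X) :
    IsClosed ({e x} : Set Y) ↔ IsClosed ({x} : Set X) := by
  rw [← Set.image_singleton, e.isClosed_image]

theorem isWLocal_homeo [SpectralSpace X] (e : X ≃ₜ Y) (h : ProEtW.IsWLocal Y) : ProEtW.IsWLocal X := by
  refine ⟨inferInstance, ?_, fun x => ?_⟩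
  · have : {x : X | IsClosed ({x} : Set X)} = e ⁻¹' {y : Y | IsClosed ({y} : Set Y)} :=
      Set.ext fun x => (isClosed_singleton_homeo e x).symm
    rw [this]; exact h.2.1.preimage e.continuous
  · obtain ⟨y, ⟨hy, hxy⟩, huniq⟩ := h.2.2 (e x)
    refine ⟨e.symm y, ⟨(isClosed_singleton_homeo e.symm y).2 hy, ?_⟩, fun z ⟨hz, hxz⟩ => ?_⟩
    · simpa using hxy.map e.symm.continuous
    · rw [← huniq (e z) ⟨(isClosed_singleton_homeo e z).2 hz, hxz.map e.continuous⟩, e.symm_apply_apply]

end Groth.Agent.WLocalLib
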