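import Groth.Prelude.Def_ProEtW
import Groth.Agent.SpecLib.T1Profinite
import Mathlib.Topology.Connected.TotallyDisconnected
import Mathlib.Topology.Spectral.Hom

/-!
# The retraction of a w-local space on its closed points
-/

set_option autoImplicit false

universe u

open Topology

namespace Groth.Agent.WLocalLib

section

variable {X : Type u} [TopologicalSpace X] (hX : ProEtW.IsWLocal X)

/-- the closed point a point specializes to -/
noncomputable def ret (x : X) : X := (hX.2.2 x).exists.choose

theorem ret_closed (x : X) : IsClosed ({ret hX x} : Set X) := (hX.2.2 x).exists.choose_spec.1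

theorem specializes_ret (x : X) : x ⤳ ret hX x := (hX.2.2 x).exists.choose_spec.2

theorem ret_unique {x y : X} (hy : IsClosed ({y} : Set X)) (h : x ⤳ y) : ret hX x = y :=
  (hX.2.2 x).unique ⟨ret_closed hX x, specializes_ret hX x⟩ ⟨hy, h⟩

theorem ret_eq_self {y : X} (hy : IsClosed ({y} : Set X)) : ret hX y = y :=
  ret_unique hX hy specializes_rfl

theorem ret_eq_of_specializes {x y : X} (h : x ⤳ y) : ret hX x = ret hX y :=
  ret_unique hX (ret_closed hX y) (h.trans (specializes_ret hX y))

theorem isClosed_preimage_ret {V : Set X} (hV : IsClosed V)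
    (hV' : ∀ v ∈ V, IsClosed ({v} : Set X)) : IsClosed (ret hX ⁻¹' V) := by
  haveI := hX.1
  have e : ret hX ⁻¹' V = ⋂₀ {s : Set X | (IsOpen s ∧ IsCompact s) ∧ V ⊆ s} := by
    refine Set.Subset.antisymm (fun x hx s hs => (specializes_ret hX x).mem_open hs.1.1 (hs.2 hx))
      fun x hx => ?_
    by_contra hne
    have hne' : ∀ v ∈ V, ¬ x ⤳ v := fun v hv hxv => hne (by
      change ret hX x ∈ V
      rw [ret_unique hX (hV' v hv) hxv]; exact hv)
    have : ∀ v ∈ V, ∃ U : Set X, (IsOpen U ∧ IsCompact U) ∧ v ∈ U ∧ x ∉ U := fun v hv => by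
      by_contra h
      push Not at h
      exact hne' v hv (SpecLib.specializes_of_forall_qc fun U a b c => h U ⟨a, b⟩ c)
    choose! U hU heU hxU using this
    obtain ⟨t, htV, ht, hcov⟩ := hV.isCompact.elim_finite_subcover_image (fun v hv => (hU v hv).1)
      (fun v hv => Set.mem_biUnion hv (heU v hv))
    obtain ⟨v, hv, hxv⟩ := Set.mem_iUnion₂.1 (hx (⋃ v ∈ t, U v) ⟨⟨isOpen_biUnion fun v hv => (hU v (htV hv)).1,
      ht.isCompact_biUnion fun v hv => (hU v (htV hv)).2⟩, hcov⟩)
    exact hxU v (htV hv) hxv
  refine SpecLib.CC.isClosed (e ▸ SpecLib.CC.sInter fun s hs => SpecLib.cc_of_isOpen_isCompact hs.1.1 hs.1.2) ?_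
  intro x y hxy hx
  change ret hX y ∈ V
  rw [← ret_eq_of_specializes hX hxy]
  exact hx

theorem continuous_ret : Continuous (ret hX) := by
  refine continuous_iff_isClosed.2 fun V hV => ?_
  have : ret hX ⁻¹' V = ret hX ⁻¹' (V ∩ {x : X | IsClosed ({x} : Set X)}) :=
    Set.ext fun x => ⟨fun h => ⟨h, ret_closed hX x⟩, fun h => h.1⟩
  rw [this]
  exact isClosed_preimage_ret hX (hV.inter hX.2.1) fun v hv => hv.2

include hX in
theorem isProfinite_closedPoints :
    CompactSpace {x : X | IsClosed ({x} : Set X)} ∧ T2Space {x : X | IsClosed ({x} : Set X)} ∧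
      TotallyDisconnectedSpace {x : X | IsClosed ({x} : Set X)} := by
  haveI := hX.1
  haveI : SpectralSpace {x : X | IsClosed ({x} : Set X)} :=
    SpecLib.spectralSpace_of_cc (SpecLib.cc_of_isClosed hX.2.1)
  haveI : T1Space {x : X | IsClosed ({x} : Set X)} := ⟨fun y => by
    rw [hX.2.1.isClosedEmbedding_subtypeVal.isClosed_iff_image_isClosed, Set.image_singleton]
    exact y.2⟩
  exact SpecLib.profinite_of_t1 _

/-- connected components of a w-local space are the fibres of the retraction -/
theorem mk_eq_mk_iff {x y : X} :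
    ConnectedComponents.mk x = ConnectedComponents.mk y ↔ ret hX x = ret hX y := by
  haveI := (isProfinite_closedPoints hX).2.2
  constructor
  · intro h
    let f : X → {x : X | IsClosed ({x} : Set X)} := fun x => ⟨ret hX x, ret_closed hX x⟩
    have hf : Continuous f := (continuous_ret hX).subtype_mk _
    have hx : x ∈ connectedComponent y := by
      rw [← ConnectedComponents.coe_eq_coe']; exact h
    exact congrArg Subtype.val (hf.image_connectedComponent_eq_singleton y ▸ Set.mem_image_of_mem f hx :
      f x ∈ ({f y} : Set _))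
  · intro h
    have hc : ∀ z : X, ConnectedComponents.mk z = ConnectedComponents.mk (ret hX z) := fun z => by
      have h1 : IsPreconnected (closure ({z} : Set X)) := isPreconnected_singleton.closure
      have h2 := h1.subset_connectedComponent (subset_closure rfl)
      exact (ConnectedComponents.coe_eq_coe'.2 (h2 ((specializes_ret hX z).mem_closure))).symm
    rw [hc x, hc y, h]

end

/-- a w-local map commutes with the retractions -/
theorem map_ret {X Y : Type u} [TopologicalSpace X] [TopologicalSpace Y] (hX : ProEtW.IsWLocal X)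
    (hY : ProEtW.IsWLocal Y) {f : X → Y} (hf : ProEtW.IsWLocalMap f) (x : X) :
    ret hY (f x) = f (ret hX x) :=
  ret_unique hY (hf.2 _ (ret_closed hX x)) ((specializes_ret hX x).map hf.1.continuous)

end Groth.Agent.WLocalLib
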