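import Mathlib.RingTheory.Spectrum.Prime.Topology
import Mathlib.Topology.Spectral.Hom

/-! ring maps give spectral maps -/

namespace Groth.Agent.WLocalLib

theorem isSpectralMap_comap {A B : Type*} [CommRing A] [CommRing B] (f : A →+* B) :
    IsSpectralMap (PrimeSpectrum.comap f) := by
  classical
  refine ⟨PrimeSpectrum.continuous_comap f, fun s hs hs' => ?_⟩
  obtain ⟨t, rfl⟩ := PrimeSpectrum.isCompact_isOpen_iff.1 ⟨hs', hs⟩
  refine (PrimeSpectrum.isCompact_isOpen_iff.2 ⟨t.image f, ?_⟩).1
  rw [Set.preimage_compl, PrimeSpectrum.preimage_comap_zeroLocus, Finset.coe_image]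

end Groth.Agent.WLocalLib
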