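import Mathlib.RingTheory.Etale.Weakly
import Mathlib.RingTheory.Localization.BaseChange
import Mathlib.RingTheory.Flat.FaithfullyFlat.Algebra

/-!
# Weakly etale algebras: localizations and products
-/

open TensorProduct

namespace Groth.Agent.WLocalLib

universe u

variable {A : Type u} [CommRing A]

theorem flat_prod {R X Y : Type u} [CommRing R] [AddCommGroup X] [Module R X] [AddCommGroup Y]
    [Module R Y] [Module.Flat R X] [Module.Flat R Y] : Module.Flat R (X × Y) := by
  rw [Module.Flat.iff_lTensor_preserves_injective_linearMap]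
  intro N N' _ _ _ _ g hg
  have key : (TensorProduct.prodLeft R R X Y N').toLinearMap ∘ₗ g.lTensor (X × Y) =
      (g.lTensor X).prodMap (g.lTensor Y) ∘ₗ (TensorProduct.prodLeft R R X Y N).toLinearMap := by
    refine TensorProduct.ext' fun p n => ?_
    obtain ⟨p₁, p₂⟩ := p
    simp
  refine Function.Injective.of_comp (f := TensorProduct.prodLeft R R X Y N') ?_
  have h := congrArg DFunLike.coe key
  simp only [LinearMap.coe_comp, LinearEquiv.coe_coe] at h
  rw [h]
  exact (Function.Injective.prodMap (Module.Flat.lTensor_preserves_injective_linearMap g hg)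
    (Module.Flat.lTensor_preserves_injective_linearMap g hg)).comp (LinearEquiv.injective _)

theorem flat_fst (S T : Type u) [CommRing S] [CommRing T] : (RingHom.fst S T).Flat := by
  algebraize [RingHom.fst S T]
  refine Module.Flat.of_retract (M := S × T)
    { toFun := fun s => (s, 0), map_add' := fun a b => by simp, map_smul' := fun r s => ?_ }
    { toFun := Prod.fst, map_add' := fun a b => rfl, map_smul' := fun r s => ?_ }
    (LinearMap.ext fun s => rfl)
  · exact Prod.ext rfl (mul_zero r.2).symm
  · rfl

theorem flat_snd (S T : Type u) [CommRing S] [CommRing T] : (RingHom.snd S T).Flat := by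
  algebraize [RingHom.snd S T]
  refine Module.Flat.of_retract (M := S × T)
    { toFun := fun s => (0, s), map_add' := fun a b => by simp, map_smul' := fun r s => ?_ }
    { toFun := Prod.snd, map_add' := fun a b => rfl, map_smul' := fun r s => ?_ }
    (LinearMap.ext fun s => rfl)
  · exact Prod.ext (mul_zero r.1).symm rfl
  · rfl

theorem weaklyEtale_prod (S T : Type u) [CommRing S] [CommRing T] [Algebra A S] [Algebra A T]
    [Algebra.WeaklyEtale A S] [Algebra.WeaklyEtale A T] : Algebra.WeaklyEtale A (S × T) := by
  refine { flat := flat_prod, flat_lmul' := ?_ }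
  let μ := Algebra.TensorProduct.lmul' A (S := S × T)
  have h1 : ((RingHom.fst S T).comp μ.toRingHom).Flat := by
    have e : (RingHom.fst S T).comp μ.toRingHom = (Algebra.TensorProduct.lmul' A (S := S)).toRingHom.comp
        (Algebra.TensorProduct.map (AlgHom.fst A S T) (AlgHom.fst A S T)).toRingHom := by
      ext <;> simp [μ]
    rw [e]
    exact RingHom.Flat.comp (RingHom.Flat.tensorProductMap (flat_fst S T) (flat_fst S T))
      (Algebra.WeaklyEtale.flat_lmul' A S)
  have h2 : ((RingHom.snd S T).comp μ.toRingHom).Flat := by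
    have e : (RingHom.snd S T).comp μ.toRingHom = (Algebra.TensorProduct.lmul' A (S := T)).toRingHom.comp
        (Algebra.TensorProduct.map (AlgHom.snd A S T) (AlgHom.snd A S T)).toRingHom := by
      ext <;> simp [μ]
    rw [e]
    exact RingHom.Flat.comp (RingHom.Flat.tensorProductMap (flat_snd S T) (flat_snd S T))
      (Algebra.WeaklyEtale.flat_lmul' A T)
  show μ.toRingHom.Flat
  letI a0 := μ.toRingHom.toAlgebra
  letI a1 := ((RingHom.fst S T).comp μ.toRingHom).toAlgebra
  letI a2 := ((RingHom.snd S T).comp μ.toRingHom).toAlgebra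
  haveI : Module.Flat ((S × T) ⊗[A] (S × T)) S := h1
  haveI : Module.Flat ((S × T) ⊗[A] (S × T)) T := h2
  let e : @LinearEquiv _ _ _ _ (RingHom.id ((S × T) ⊗[A] (S × T))) (RingHom.id _) _ _ (S × T) (S × T) _ _
      a0.toModule Prod.instModule :=
    { toFun := id, invFun := id, left_inv := fun _ => rfl, right_inv := fun _ => rfl,
      map_add' := fun _ _ => rfl, map_smul' := fun _ _ => rfl }
  exact @Module.Flat.of_linearEquiv _ _ _ _ _ a0.toModule _ Prod.instModule flat_prod e

theorem weaklyEtale_localization (M : Submonoid A) (S : Type u) [CommRing S] [Algebra A S]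
    [IsLocalization M S] : Algebra.WeaklyEtale A S where
  flat := IsLocalization.flat S M
  flat_lmul' := RingHom.Flat.of_bijective (by
    refine ⟨fun x y hxy => ?_, fun s => ⟨s ⊗ₜ 1, by simp⟩⟩
    have hid : ∀ z : S ⊗[A] S, z = Algebra.TensorProduct.lmul' A z ⊗ₜ 1 := fun z => by
      have : (AlgHom.id A (S ⊗[A] S)) = (Algebra.TensorProduct.includeLeft (S := A)).comp (Algebra.TensorProduct.lmul' A) :=
        Algebra.TensorProduct.ext (IsLocalization.algHom_ext M (Subsingleton.elim _ _))
          (IsLocalization.algHom_ext M (Subsingleton.elim _ _))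
      exact AlgHom.congr_fun this z
    rw [hid x, hid y]
    exact congrArg (· ⊗ₜ (1 : S)) hxy)

end Groth.Agent.WLocalLib
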