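import Mathlib.RingTheory.Etale.Pi

/-! product of two etale algebras -/

universe u

namespace Groth.Agent.WLocalLib

set_option backward.isDefEq.respectTransparency.types false
set_option backward.isDefEq.respectTransparency false

/-- the two factors as a family -/
abbrev BFam (S T : Type u) : Bool → Type u := fun b => Bool.rec T S b

noncomputable scoped instance bFamRing {S T : Type u} [CommRing S] [CommRing T] : ∀ b, CommRing (BFam S T b)
  | true => ‹CommRing S›
  | false => ‹CommRing T›

noncomputable scoped instance bFamAlg {A S T : Type u} [CommRing A] [CommRing S] [CommRing T] [Algebra A S] [Algebra A T] :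
    ∀ b, Algebra A (BFam S T b)
  | true => ‹Algebra A S›
  | false => ‹Algebra A T›

theorem etale_prod {A S T : Type u} [CommRing A] [CommRing S] [CommRing T] [Algebra A S] [Algebra A T]
    [Algebra.Etale A S] [Algebra.Etale A T] : Algebra.Etale A (S × T) := by
  haveI : ∀ b, Algebra.Etale A (BFam S T b) := fun b =>
    match b with
    | true => ‹Algebra.Etale A S›
    | false => ‹Algebra.Etale A T›
  let g : (∀ b, BFam S T b) →ₐ[A] S × T :=
    { toFun := fun x => ((x true : S), (x false : T)), map_one' := rfl, map_mul' := fun _ _ => rfl,
      map_zero' := rfl, map_add' := fun _ _ => rfl, commutes' := fun _ => rfl }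
  refine Algebra.Etale.of_equiv (AlgEquiv.ofBijective g ⟨fun x y h => funext fun b => ?_, fun z =>
    ⟨fun b => Bool.rec (motive := fun b => BFam S T b) z.2 z.1 b, rfl⟩⟩)
  cases b
  · exact congrArg Prod.snd h
  · exact congrArg Prod.fst h

end Groth.Agent.WLocalLib
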