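import Mathlib.RingTheory.Localization.Away.Basic
import Mathlib.RingTheory.Spectrum.Prime.Topology
import Mathlib.RingTheory.Jacobson.Ideal

/-!
# Retractions over localizations specializing to a closed subset
-/

namespace Groth.Agent.WLocalLib

universe u

variable {A B : Type u} [CommRing A] [CommRing B] [Algebra A B] (S : Submonoid A) [IsLocalization S B]

include S in
theorem mem_jacobson_of_range {I : Set A} (hB : Set.range (PrimeSpectrum.comap (algebraMap A B)) =
      {x | ∃ z : PrimeSpectrum A, z ∈ PrimeSpectrum.zeroLocus (R := A) I ∧ x ⤳ z})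
    {e : A} (he : e ∈ Ideal.span I) : algebraMap A B e ∈ Ideal.jacobson (⊥ : Ideal B) := by
  rw [Ideal.jacobson, Submodule.mem_sInf]
  rintro q ⟨-, hq⟩
  have hq' := hq.isPrime
  obtain ⟨z, hz, hxz⟩ := hB.le ⟨⟨q, hq'⟩, rfl⟩
  obtain ⟨y, rfl⟩ := hB.ge ⟨z, hz, specializes_rfl⟩
  have h := (PrimeSpectrum.localization_comap_isEmbedding B S).isInducing.specializes_iff.1 hxz
  rw [← PrimeSpectrum.le_iff_specializes] at h
  have heq : q = y.asIdeal := hq.eq_of_le y.2.ne_top h
  rw [PrimeSpectrum.mem_zeroLocus] at hz
  rw [heq]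
  exact Ideal.span_le.2 hz he

omit [IsLocalization S B] in
/-- a retraction of `B' × C` maps `B'` to `B`, when the idempotent of `C` dies in `B` -/
theorem exists_algHom_of_retraction {B' C : Type u} [CommRing B'] [CommRing C] [Algebra A B'] [Algebra A C]
    (σ : (B' × C) →ₐ[A] A)
    (h0 : algebraMap A B (σ (0, 1)) ∈ Ideal.jacobson (⊥ : Ideal B)) :
    Nonempty (B' →ₐ[A] B) := by
  have hidem : σ (0, 1) * σ (0, 1) = σ (0, 1) := by rw [← map_mul]; simp
  have he : algebraMap A B (σ (0, 1)) = 0 := by
    obtain hu := Ideal.mem_jacobson_bot.1 h0 (-1)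
    refine hu.mul_left_eq_zero.1 ?_
    rw [mul_add, mul_one, mul_neg, mul_one, mul_neg, ← map_mul, hidem, neg_add_cancel]
  refine ⟨{ toFun := fun b => algebraMap A B (σ (b, 0))
            map_one' := ?_
            map_mul' := fun a b => by rw [← map_mul, ← map_mul, Prod.mk_mul_mk, mul_zero]
            map_zero' := by simp [Prod.mk_zero_zero]
            map_add' := fun a b => by rw [← map_add, ← map_add, Prod.mk_add_mk, add_zero]
            commutes' := fun a => ?_ }⟩
  · have h1 : σ (1, 0) + σ (0, 1) = 1 := by rw [← map_add]; exact (congrArg σ (by simp)).trans (map_one σ)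
    have := congrArg (algebraMap A B) h1
    rwa [map_add, he, add_zero, map_one] at this
  · have : σ (algebraMap A B' a, 0) = a - a * σ (0, 1) := by
      have h2 : ((algebraMap A B' a, 0) : B' × C) = algebraMap A (B' × C) a - a • ((0, 1) : B' × C) :=
        Prod.ext (by simp) (by simp [Algebra.smul_def])
      rw [h2, map_sub, map_smul, σ.commutes, smul_eq_mul]
      rfl
    change algebraMap A B (σ (algebraMap A B' a, 0)) = algebraMap A B a
    rw [this, map_sub, map_mul, he, mul_zero, sub_zero]

include S in
/-- a retraction from `B' × C` gives one over `B`, when the idempotent of `C` dies in `B` -/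
theorem exists_retraction {B' C : Type u} [CommRing B'] [CommRing C] [Algebra A B'] [Algebra A C]
    [Algebra B B'] [IsScalarTower A B B'] (σ : (B' × C) →ₐ[A] A)
    (h0 : algebraMap A B (σ (0, 1)) ∈ Ideal.jacobson (⊥ : Ideal B)) :
    Nonempty (B' →ₐ[B] B) := by
  obtain ⟨φ⟩ := exists_algHom_of_retraction σ h0
  refine ⟨{ φ.toRingHom with commutes' := fun b => ?_ }⟩
  refine RingHom.congr_fun (f := φ.toRingHom.comp (algebraMap B B')) (g := RingHom.id B) ?_ b
  refine IsLocalization.ringHom_ext S (RingHom.ext fun a => ?_)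
  change φ (algebraMap B B' (algebraMap A B a)) = algebraMap A B a
  rw [← IsScalarTower.algebraMap_apply A B B', φ.commutes]

end Groth.Agent.WLocalLib
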