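import Groth.Agent.SpecLib.Basic
import Groth.Agent.S7529
import Groth.Agent.S7566
import Groth.Agent.S7584
import Mathlib.Topology.Separation.Profinite

/-!
# Fibre products over the space of connected components
-/

set_option autoImplicit false

universe u

open Topology

namespace Groth.Agent.WLocalLib

theorem t2Space_components (X : Type u) [TopologicalSpace X] [SpectralSpace X] :
    T2Space (_root_.ConnectedComponents X) :=
  S7584.result X fun x => S7566.result x

theorem spectralSpace_of_profinite (T : Type u) [TopologicalSpace T] [CompactSpace T] [T2Space T]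
    [TotallyDisconnectedSpace T] : SpectralSpace T := by
  haveI : PrespectralSpace T := PrespectralSpace.of_isTopologicalBasis isTopologicalBasis_isClopen
    fun U hU => hU.1.isCompact
  haveI : QuasiSeparatedSpace T := ⟨fun U V _ hU _ hV => hU.inter hV⟩
  constructor

variable {X T : Type u} [TopologicalSpace X] [SpectralSpace X] [TopologicalSpace T] [CompactSpace T]
  [T2Space T] [TotallyDisconnectedSpace T] (g : C(T, _root_.ConnectedComponents X))

theorem isClosed_fibreProd : IsClosed {p : X × T | _root_.ConnectedComponents.mk p.1 = g p.2} := by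
  haveI := t2Space_components X
  exact isClosed_eq (ConnectedComponents.continuous_coe.comp continuous_fst) (g.continuous.comp continuous_snd)

theorem spectralSpace_fibreProd :
    SpectralSpace {p : X × T // _root_.ConnectedComponents.mk p.1 = g p.2} := by
  haveI := spectralSpace_of_profinite T
  haveI := S7529.result X T
  exact SpecLib.spectralSpace_of_cc (SpecLib.cc_of_isClosed (isClosed_fibreProd g))

theorem isSpectralMap_fst :
    IsSpectralMap (fun y : {p : X × T // _root_.ConnectedComponents.mk p.1 = g p.2} => y.1.1) := by
  refine ⟨continuous_fst.comp continuous_subtype_val, fun U _ hU => ?_⟩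
  rw [IsEmbedding.subtypeVal.isCompact_iff]
  have : Subtype.val '' ((fun y : {p : X × T // _root_.ConnectedComponents.mk p.1 = g p.2} => y.1.1) ⁻¹' U) =
      (U ×ˢ Set.univ) ∩ {p : X × T | _root_.ConnectedComponents.mk p.1 = g p.2} :=
    Set.ext fun p => ⟨fun ⟨y, hy, e⟩ => e ▸ ⟨⟨hy, trivial⟩, y.2⟩, fun ⟨⟨hp, _⟩, h⟩ => ⟨⟨p, h⟩, hp, rfl⟩⟩
  rw [this]
  exact (hU.prod isCompact_univ).inter_right (isClosed_fibreProd g)

theorem mk_eq_mk_fibreProd {y y' : {p : X × T // _root_.ConnectedComponents.mk p.1 = g p.2}} :
    ConnectedComponents.mk y = ConnectedComponents.mk y' ↔ y.1.2 = y'.1.2 := by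
  constructor
  · intro h
    have hs : Continuous fun z : {p : X × T // _root_.ConnectedComponents.mk p.1 = g p.2} => z.1.2 :=
      continuous_snd.comp continuous_subtype_val
    exact hs.connectedComponentsLift_apply_coe y ▸ hs.connectedComponentsLift_apply_coe y' ▸
      congrArg hs.connectedComponentsLift h
  · intro h
    obtain ⟨⟨x, t⟩, hy⟩ := y
    obtain ⟨⟨x', t'⟩, hy'⟩ := y'
    obtain rfl : t = t' := h
    haveI : PreconnectedSpace (connectedComponent x) :=
      isPreconnected_iff_preconnectedSpace.1 isPreconnected_connectedComponent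
    let ι : connectedComponent x → {p : X × T // _root_.ConnectedComponents.mk p.1 = g p.2} :=
      fun z => ⟨(z.1, t), (ConnectedComponents.coe_eq_coe'.2 z.2).trans hy⟩
    have hι : Continuous ι := (continuous_subtype_val.prodMk continuous_const).subtype_mk _
    have hx' : x' ∈ connectedComponent x := ConnectedComponents.coe_eq_coe'.1 (hy'.trans hy.symm)
    exact ConnectedComponents.coe_eq_coe'.2 ((isPreconnected_range hι).subset_connectedComponent
      ⟨⟨x', hx'⟩, rfl⟩ ⟨⟨x, mem_connectedComponent⟩, rfl⟩)

end Groth.Agent.WLocalLib
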