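import Groth.Agent.WLocalLib.Retraction
import Groth.Agent.WLocalLib.FibreProd
import Groth.Agent.WLocalLib.Spectral
import Mathlib.RingTheory.Localization.AtPrime.Basic
import Mathlib.Topology.ExtremallyDisconnected

set_option linter.style.haveILetI false

/-!
# Retractions of algebras which are local isomorphisms over closed points
-/

universe u

namespace Groth.Agent.WLocalLib

noncomputable section

variable {A B : Type u} [CommRing A] [CommRing B] [Algebra A B]

/-- `x` is hit near `q` by a fraction of `A` -/
theorem exists_eq_of_bijective {q : PrimeSpectrum B}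
    (h : Function.Bijective (Localization.localRingHom (q.asIdeal.comap (algebraMap A B)) q.asIdeal (algebraMap A B) rfl))
    (x : B) : ∃ a d : A, ∃ c : B, d ∉ q.asIdeal.comap (algebraMap A B) ∧ c ∉ q.asIdeal ∧
      c * (algebraMap A B d * x - algebraMap A B a) = 0 := by
  obtain ⟨w, hw⟩ := h.2 (algebraMap B _ x)
  obtain ⟨⟨a, d⟩, rfl⟩ := IsLocalization.mk'_surjective (q.asIdeal.comap (algebraMap A B)).primeCompl w
  rw [Localization.localRingHom_mk', IsLocalization.mk'_eq_iff_eq_mul, ← map_mul, eq_comm,
    IsLocalization.eq_iff_exists q.asIdeal.primeCompl] at hw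
  obtain ⟨c, hc⟩ := hw
  exact ⟨a, d, c, d.2, c.2, by rw [mul_sub, mul_comm (algebraMap A B (d : A)) x, hc, sub_self]⟩

theorem exists_retraction_of_local (hA : ProEtW.IsWLocal (PrimeSpectrum A))
    [ExtremallyDisconnected (_root_.ConnectedComponents (PrimeSpectrum A))]
    (hsurj : Function.Surjective (PrimeSpectrum.comap (algebraMap A B)))
    (hloc : ∀ q : PrimeSpectrum B, IsClosed ({PrimeSpectrum.comap (algebraMap A B) q} : Set (PrimeSpectrum A)) →
      Function.Bijective (Localization.localRingHom (q.asIdeal.comap (algebraMap A B)) q.asIdeal (algebraMap A B) rfl)) :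
    Nonempty (B →ₐ[A] A) := by
  classical
  let f := PrimeSpectrum.comap (algebraMap A B)
  let X0 : Set (PrimeSpectrum B) := f ⁻¹' {x | IsClosed ({x} : Set (PrimeSpectrum A))}
  have hX0 : IsClosed X0 := hA.2.1.preimage (PrimeSpectrum.continuous_comap _)
  have : SpectralSpace X0 := SpecLib.spectralSpace_of_cc (SpecLib.cc_of_isClosed hX0)
  have : T1Space X0 := by
    refine t1Space_iff_specializes_imp_eq.2 fun q q' hqq => ?_
    rw [subtype_specializes_iff, ← PrimeSpectrum.le_iff_specializes] at hqq
    refine Subtype.ext (PrimeSpectrum.ext (le_antisymm hqq fun z hz => ?_))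
    obtain ⟨a, d, c, hd, hc, hzc⟩ := exists_eq_of_bijective (hloc q'.1 q'.2) z
    have hfq : f q.1 = f q'.1 := by
      refine Eq.symm ?_
      have hsp : f q.1 ⤳ f q'.1 := ((PrimeSpectrum.le_iff_specializes _ _).1 hqq).map (PrimeSpectrum.continuous_comap _)
      exact (Set.mem_singleton_iff.1 (hsp.mem_closed q.2 rfl) : f q'.1 = f q.1)
    have ha' : algebraMap A B a ∈ q'.1.asIdeal := by
      have h1 : c * (algebraMap A B d * z - algebraMap A B a) ∈ q'.1.asIdeal := hzc ▸ zero_mem _
      have h2 := (q'.1.2.mem_or_mem h1).resolve_left hc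
      have := q'.1.asIdeal.sub_mem (q'.1.asIdeal.mul_mem_left (algebraMap A B d) hz) h2
      simpa using this
    have ha : algebraMap A B a ∈ q.1.asIdeal := by
      change a ∈ (f q.1).asIdeal
      rw [hfq]; exact ha'
    have hd' : algebraMap A B d ∉ q.1.asIdeal := by
      change d ∉ (f q.1).asIdeal
      rw [hfq]; exact hd
    have h1 : c * (algebraMap A B d * z - algebraMap A B a) ∈ q.1.asIdeal := hzc ▸ zero_mem _
    have h2 := (q.1.2.mem_or_mem h1).resolve_left fun hh => hc (hqq hh)
    exact (q.1.2.mem_or_mem (by simpa using q.1.asIdeal.add_mem h2 ha)).resolve_left hd'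
  obtain ⟨hc0, ht0, -⟩ := SpecLib.profinite_of_t1 X0
  have := hc0
  have := ht0
  have := hA.1
  have := t2Space_components (PrimeSpectrum A)
  let p : X0 → _root_.ConnectedComponents (PrimeSpectrum A) := fun q => ConnectedComponents.mk (f q.1)
  have hp : Continuous p :=
    ConnectedComponents.continuous_coe.comp ((PrimeSpectrum.continuous_comap _).comp continuous_subtype_val)
  have hpsurj : Function.Surjective p := fun c => by
    obtain ⟨x, rfl⟩ := ConnectedComponents.surjective_coe c
    obtain ⟨q, hq⟩ := hsurj (ret hA x)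
    refine ⟨⟨q, by show IsClosed _; rw [show f q = _ from hq]; exact ret_closed hA x⟩, ?_⟩
    show ConnectedComponents.mk (f q) = ConnectedComponents.mk x
    rw [show f q = _ from hq, mk_eq_mk_iff hA, ret_eq_self hA (ret_closed hA x)]
  have : CompactSpace (_root_.ConnectedComponents (PrimeSpectrum A)) := Quotient.compactSpace
  obtain ⟨s, hs, hps⟩ := CompactT2.ExtremallyDisconnected.projective
    (A := _root_.ConnectedComponents (PrimeSpectrum A)) continuous_id hp hpsurj
  -- the chosen point over a maximal ideal
  let qm : ∀ m : PrimeSpectrum A, PrimeSpectrum B := fun m => (s (ConnectedComponents.mk m)).1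
  have hqm : ∀ m : PrimeSpectrum A, IsClosed ({m} : Set (PrimeSpectrum A)) → f (qm m) = m := fun m hm => by
    have h := congrFun hps (ConnectedComponents.mk m)
    change ConnectedComponents.mk (f (qm m)) = ConnectedComponents.mk m at h
    rwa [mk_eq_mk_iff hA, ret_eq_self hA hm, ret_eq_self hA (s (ConnectedComponents.mk m)).2] at h
  let eqv : ∀ m : {m : PrimeSpectrum A // IsClosed ({m} : Set (PrimeSpectrum A))},
      Localization.AtPrime m.1.asIdeal ≃ₐ[A] Localization.AtPrime (qm m.1).asIdeal :=
    fun m =>
      let e : Localization.AtPrime m.1.asIdeal →ₐ[A] Localization.AtPrime (qm m.1).asIdeal :=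
        { (Localization.localRingHom m.1.asIdeal (qm m.1).asIdeal (algebraMap A B)
            (congrArg PrimeSpectrum.asIdeal (hqm m.1 m.2)).symm) with
          commutes' := fun a => (Localization.localRingHom_to_map _ _ _ _ a).trans
            (IsScalarTower.algebraMap_apply A B _ a).symm }
      have he : Function.Bijective e := by
        have h := hloc (qm m.1) (by rw [show PrimeSpectrum.comap (algebraMap A B) (qm m.1) = m.1 from hqm m.1 m.2]; exact m.2)
        have key : ∀ (I : Ideal A) (_ : I.IsPrime) (hI : I = (qm m.1).asIdeal.comap (algebraMap A B)),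
            Function.Bijective (Localization.localRingHom I (qm m.1).asIdeal (algebraMap A B) hI) := by
          rintro I _ rfl; exact h
        exact key m.1.asIdeal inferInstance (congrArg PrimeSpectrum.asIdeal (hqm m.1 m.2)).symm
      AlgEquiv.ofBijective e he
  let ρ : ∀ m : {m : PrimeSpectrum A // IsClosed ({m} : Set (PrimeSpectrum A))}, B →ₐ[A] Localization.AtPrime m.1.asIdeal :=
    fun m => (eqv m).symm.toAlgHom.comp (IsScalarTower.toAlgHom A B _)
  -- existence of the element of `A`
  have hex : ∀ b : B, ∃ a : A, ∀ m, algebraMap A (Localization.AtPrime m.1.asIdeal) a = ρ m b := fun b => by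
    let J : Ideal A :=
      { carrier := {d | ∃ a : A, ∀ m, algebraMap A (Localization.AtPrime m.1.asIdeal) a = algebraMap A _ d * ρ m b}
        zero_mem' := ⟨0, fun m => by simp⟩
        add_mem' := fun {d d'} ⟨a, ha⟩ ⟨a', ha'⟩ => ⟨a + a', fun m => by rw [map_add, map_add, ha, ha', add_mul]⟩
        smul_mem' := fun r d ⟨a, ha⟩ => ⟨r * a, fun m => by rw [smul_eq_mul, map_mul, map_mul, ha, mul_assoc]⟩ }
    obtain ⟨a, ha⟩ : (1 : A) ∈ J := by
      rw [← Ideal.eq_top_iff_one]
      by_contra hne
      obtain ⟨M, hM, hle⟩ := Ideal.exists_le_maximal J hne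
      let m0 : PrimeSpectrum A := ⟨M, hM.isPrime⟩
      have hm0 : IsClosed ({m0} : Set (PrimeSpectrum A)) := (PrimeSpectrum.isClosed_singleton_iff_isMaximal _).2 hM
      obtain ⟨a0, d0, c, hd0, hc, hx⟩ := exists_eq_of_bijective
        (hloc (qm m0) (by rw [show PrimeSpectrum.comap (algebraMap A B) (qm m0) = m0 from hqm m0 hm0]; exact hm0)) b
      have hopen : IsOpen ((fun z => (s z).1) ⁻¹' (PrimeSpectrum.basicOpen c : Set (PrimeSpectrum B))) :=
        (PrimeSpectrum.basicOpen c).isOpen.preimage (continuous_subtype_val.comp hs)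
      obtain ⟨V, hV, hm0V, hVc⟩ := compact_exists_isClopen_in_isOpen hopen
        (show ConnectedComponents.mk m0 ∈ _ from hc)
      obtain ⟨e, he, heq⟩ := PrimeSpectrum.exists_idempotent_basicOpen_eq_of_isClopen
        (hV.preimage ConnectedComponents.continuous_coe)
      have hmem : e * d0 ∈ J := ⟨e * a0, fun m => by
        by_cases hem : e ∈ m.1.asIdeal
        · have h0 : algebraMap A (Localization.AtPrime m.1.asIdeal) e = 0 := by
            refine (IsLocalization.map_eq_zero_iff m.1.asIdeal.primeCompl _ e).2
              ⟨⟨1 - e, fun hh => m.1.2.one_notMem (by simpa using m.1.asIdeal.add_mem hh hem)⟩, by simp [sub_mul, he.eq]⟩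
          rw [map_mul, map_mul, h0, zero_mul, zero_mul, zero_mul]
        · have hcm : c ∉ (qm m.1).asIdeal := hVc (heq.ge hem)
          have hu : IsUnit (ρ m c) := by
            show IsUnit ((eqv m).symm (algebraMap B (Localization.AtPrime (qm m.1).asIdeal) c))
            exact (IsLocalization.map_units (Localization.AtPrime (qm m.1).asIdeal)
                (⟨c, hcm⟩ : (qm m.1).asIdeal.primeCompl)).map _
          have h1 := congrArg (ρ m) hx
          rw [map_mul, map_zero, hu.mul_right_eq_zero, map_sub, map_mul, AlgHom.commutes, AlgHom.commutes, sub_eq_zero] at h1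
          rw [map_mul, map_mul, mul_assoc, h1]⟩
      rcases hM.isPrime.mem_or_mem (hle hmem) with h | h
      · exact heq.le hm0V h
      · have hh : d0 ∈ (f (qm m0)).asIdeal := by rw [hqm m0 hm0]; exact h
        exact hd0 hh
    exact ⟨a, fun m => by rw [ha m, map_one, one_mul]⟩
  have hinj : ∀ x y : A, (∀ m : {m : PrimeSpectrum A // IsClosed ({m} : Set (PrimeSpectrum A))},
      algebraMap A (Localization.AtPrime m.1.asIdeal) x = algebraMap A _ y) → x = y := fun x y h => by
    by_contra hne
    obtain ⟨M, hM, hle⟩ := Ideal.exists_le_maximal (Submodule.span A {x - y}).annihilator (fun htop => by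
      have := (Submodule.mem_annihilator_span_singleton (x - y) (1 : A)).1 (htop ▸ Submodule.mem_top)
      exact hne (sub_eq_zero.1 (by simpa using this)))
    have h1 := h ⟨⟨M, hM.isPrime⟩, (PrimeSpectrum.isClosed_singleton_iff_isMaximal _).2 hM⟩
    rw [IsLocalization.eq_iff_exists M.primeCompl] at h1
    obtain ⟨c, hc⟩ := h1
    refine c.2 (hle ((Submodule.mem_annihilator_span_singleton _ _).2 ?_))
    rw [smul_eq_mul, mul_sub, hc, sub_self]
  choose g hg using hex
  exact ⟨{ toFun := g
           map_one' := hinj _ _ fun m => by rw [hg, map_one, map_one]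
           map_mul' := fun x y => hinj _ _ fun m => by rw [hg, map_mul, map_mul, hg, hg]
           map_zero' := hinj _ _ fun m => by rw [hg, map_zero, map_zero]
           map_add' := fun x y => hinj _ _ fun m => by rw [hg, map_add, map_add, hg, hg]
           commutes' := fun a => hinj _ _ fun m => by rw [hg, AlgHom.commutes]; rfl }⟩

end

end Groth.Agent.WLocalLib
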