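import Groth.Agent.WLocalLib.Retraction

/-!
# Connected components of a w-local space
-/

universe u

namespace Groth.Agent.WLocalLib

noncomputable section

variable {X : Type u} [TopologicalSpace X] (hX : ProEtW.IsWLocal X)

/-- the connected components of a w-local space are its closed points -/
def componentsHomeo : _root_.ConnectedComponents X ≃ₜ {x : X | IsClosed ({x} : Set X)} :=
  haveI := hX.1
  haveI : CompactSpace (_root_.ConnectedComponents X) := Quotient.compactSpace
  haveI := (isProfinite_closedPoints hX).2.1
  haveI := (isProfinite_closedPoints hX).2.2
  let f : X → {x : X | IsClosed ({x} : Set X)} := fun x => ⟨ret hX x, ret_closed hX x⟩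
  let hf : Continuous f := (continuous_ret hX).subtype_mk _
  Continuous.homeoOfEquivCompactToT2 (f :=
    { toFun := hf.connectedComponentsLift
      invFun := fun y => ConnectedComponents.mk y.1
      left_inv := fun c => by
        obtain ⟨x, rfl⟩ := ConnectedComponents.surjective_coe c
        rw [Continuous.connectedComponentsLift_apply_coe, mk_eq_mk_iff hX]
        exact ret_eq_self hX (ret_closed hX x)
      right_inv := fun y => by
        rw [Continuous.connectedComponentsLift_apply_coe]
        exact Subtype.ext (ret_eq_self hX y.2) })
    hf.connectedComponentsLift_continuous

end

end Groth.Agent.WLocalLib
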